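import Groth.Agent.ConjInt.Transporter
import Groth.Agent.ConjInt.BaseChange
import Groth.Agent.Transporter.EqLocus
import Groth.Agent.CentralDescent.Points

/-!
Homomorphisms out of a group of multiplicative type along a nilpotent ideal.
-/

universe u

open CategoryTheory Limits MonoidalCategory CartesianMonoidalCategory MonObj GrpObj AlgebraicGeometry
open CoactBr Groth.Agent.DiagGrp Groth.Agent.DiagAction Groth.Agent.ConjInt Groth.Agent.Transporter

set_option backward.isDefEq.respectTransparency false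
set_option linter.style.haveILetI false

noncomputable section

namespace Groth.Agent.DiagLift

variable {R : Type u} [CommRing R]

theorem isMT_diag (M : Type) [AddCommGroup M] : IsMT (Red.diag R M) := by
  refine ⟨_, 𝟙 _, inferInstance, inferInstance, fun V hV => ⟨V, hV.isCompact, by simp⟩, fun s => ?_⟩
  refine ⟨⊤, trivial, M, inferInstance, ?_⟩
  obtain ⟨E0⟩ := (isSplitTorusWith_iff (M := M) (Red.DS (Spec (CommRingCat.of R)) M)).mp ⟨Iso.refl _⟩
  let g := (⊤ : (Spec (CommRingCat.of R)).Opens).ι ≫ 𝟙 (Spec (CommRingCat.of R))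
  obtain ⟨E1⟩ := bc_DS_grp g M
  exact ⟨(Over.pullback g).mapGrp.mapIso E0.symm ≪≫ E1⟩

variable {H X : Over (Spec (CommRingCat.of R))} [GrpObj H] [GrpObj X]

theorem trivial_step (hH : IsMT H) (f : H ⟶ X) [IsMonHom f] (J : Ideal R)
    (hf : ∀ (B : Type u) [CommRing B] [Algebra R B], (∀ r ∈ J, algebraMap R B r = 0) →
      ∀ h : sp R B ⟶ H, h ≫ f = 1) (B : Type u) [CommRing B] [Algebra R B]
    (hB : ∀ r ∈ J ^ 2, algebraMap R B r = 0) (h : sp R B ⟶ H) : h ≫ f = 1 := by
  let R' := R ⧸ J ^ 2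
  let J' : Ideal R' := J.map (algebraMap R R')
  have hJ' : J' ^ 2 = ⊥ := by
    rw [← Ideal.map_pow, Ideal.map_eq_bot_iff_le_ker, Ideal.Quotient.algebraMap_eq, Ideal.mk_ker]
  let f' := (Over.pullback (str R R')).map f
  haveI : IsMonHom (1 : Red.bc (str R R') H ⟶ Red.bc (str R R') X) :=
    Groth.Agent.CentralDescent.isMonHom_of_mul _ fun Y p q => by rw [MonObj.comp_one, MonObj.comp_one, MonObj.comp_one, _root_.one_mul]
  obtain ⟨g, -, hg⟩ := exists_conj hJ' (isMT_bc (str R R') H hH) (1 : Red.bc (str R R') H ⟶ Red.bc (str R R') X) f'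
    fun D _ _ hD z => by
      letI : Algebra R D := Algebra.compHom D (algebraMap R R')
      haveI : IsScalarTower R R' D := IsScalarTower.of_algebraMap_eq fun _ => rfl
      rw [MonObj.comp_one]
      apply down_injective
      rw [down_one, down_comp_map, hf D (fun r hr => hD _ (Ideal.mem_map_of_mem _ hr)) (down z)]
  letI : Algebra R' B := (Ideal.Quotient.lift (J ^ 2) (algebraMap R B) hB).toAlgebra
  haveI : IsScalarTower R R' B := IsScalarTower.of_algebraMap_eq fun _ => rfl
  have h1 := hg _ (up h)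
  rw [MonObj.comp_one, _root_.mul_one, mul_inv_cancel] at h1
  have h2 := congrArg down h1
  rwa [down_comp_map, down_up, down_one] at h2

theorem hom_eq_one_of_mod (hH : IsMT H) (f : H ⟶ X) [IsMonHom f] (J : Ideal R) (hJ : IsNilpotent J)
    (hf : ∀ (B : Type u) [CommRing B] [Algebra R B], (∀ r ∈ J, algebraMap R B r = 0) →
      ∀ h : sp R B ⟶ H, h ≫ f = 1) : f = 1 := by
  have key : ∀ (k : ℕ) (I : Ideal R), I ^ (2 ^ k) = ⊥ →
      (∀ (B : Type u) [CommRing B] [Algebra R B], (∀ r ∈ I, algebraMap R B r = 0) →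
        ∀ h : sp R B ⟶ H, h ≫ f = 1) → f = 1 := by
    intro k
    induction k with
    | zero =>
      intro I hI h0
      rw [pow_zero, pow_one] at hI
      refine affine_point_ext _ _ fun D _ _ z => ?_
      rw [MonObj.comp_one, h0 D (fun r hr => by rw [hI, Ideal.mem_bot] at hr; rw [hr, map_zero]) z]
    | succ k ih =>
      intro I hI h0
      exact ih (I ^ 2) (by rw [← pow_mul, ← pow_succ', hI]) fun B _ _ hB h => trivial_step hH f I h0 B hB h
  obtain ⟨N, hN⟩ := hJ
  refine key N J ?_ hf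
  rw [← Ideal.zero_eq_bot]
  exact pow_eq_zero_of_le (Nat.le_of_lt (Nat.lt_two_pow_self)) hN

theorem exists_lift_of_bc (hH : IsMT H) (hX : Smooth X.hom) (J : Ideal R) (hJ : IsNilpotent J)
    (f₀ : Red.bc (str R (R ⧸ J)) H ⟶ Red.bc (str R (R ⧸ J)) X) [IsMonHom f₀] :
    ∃ f : H ⟶ X, IsMonHom f ∧ (Over.pullback (str R (R ⧸ J))).map f = f₀ := by
  let F : ∀ (B : Type u) [CommRing B] [Algebra R B], (∀ r ∈ J, algebraMap R B r = 0) →
      (sp R B ⟶ H) → (sp R B ⟶ X) := fun B _ _ hB h =>
    letI : Algebra (R ⧸ J) B := (Ideal.Quotient.lift J (algebraMap R B) hB).toAlgebra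
    haveI : IsScalarTower R (R ⧸ J) B := IsScalarTower.of_algebraMap_eq fun _ => rfl
    down (up (K := R ⧸ J) h ≫ f₀)
  let θ : ModFam J H X :=
    { f := F
      nat := fun {B B'} _ _ _ _ hB hB' k h => by
        letI : Algebra (R ⧸ J) B := (Ideal.Quotient.lift J (algebraMap R B) hB).toAlgebra
        haveI : IsScalarTower R (R ⧸ J) B := IsScalarTower.of_algebraMap_eq fun _ => rfl
        letI : Algebra (R ⧸ J) B' := (Ideal.Quotient.lift J (algebraMap R B') hB').toAlgebra
        haveI : IsScalarTower R (R ⧸ J) B' := IsScalarTower.of_algebraMap_eq fun _ => rfl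
        let k' : B →ₐ[R ⧸ J] B' := { k.toRingHom with
          commutes' := fun r => by
            obtain ⟨r, rfl⟩ := Ideal.Quotient.mk_surjective r
            exact k.commutes r }
        show pt k ≫ down (up (K := R ⧸ J) h ≫ f₀) = down (up (K := R ⧸ J) (pt k ≫ h) ≫ f₀)
        rw [show pt k = pt (k'.restrictScalars R) from rfl, ← DiagGrp.down_comp, ← Category.assoc, comp_up]
      mul := fun {B} _ _ hB h k => by
        letI : Algebra (R ⧸ J) B := (Ideal.Quotient.lift J (algebraMap R B) hB).toAlgebra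
        haveI : IsScalarTower R (R ⧸ J) B := IsScalarTower.of_algebraMap_eq fun _ => rfl
        show down (up (K := R ⧸ J) (h * k) ≫ f₀) = down (up h ≫ f₀) * down (up k ≫ f₀)
        rw [up_mul, mul_comp', down_mul] }
  obtain ⟨w, hw, hw'⟩ := exists_lift_smooth_nilpotent hJ hH hX θ
  refine ⟨w, hw, affine_point_ext _ _ fun D _ _ z => ?_⟩
  letI : Algebra R D := Algebra.compHom D (algebraMap R (R ⧸ J))
  haveI : IsScalarTower R (R ⧸ J) D := IsScalarTower.of_algebraMap_eq fun _ => rfl
  have hD : ∀ r ∈ J, algebraMap R D r = 0 := fun r hr => by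
    rw [IsScalarTower.algebraMap_apply R (R ⧸ J) D, Ideal.Quotient.algebraMap_eq,
      Ideal.Quotient.eq_zero_iff_mem.mpr hr, map_zero]
  apply down_injective
  rw [down_comp_map, hw' D hD (down z)]
  have hF : ∀ (B : Type u) [CommRing B] [Algebra R B] [inst : Algebra (R ⧸ J) B] [IsScalarTower R (R ⧸ J) B]
      (hB : ∀ r ∈ J, algebraMap R B r = 0) (h : sp R B ⟶ H), θ.f B hB h = down (up (K := R ⧸ J) h ≫ f₀) := by
    intro B _ _ inst t hB h
    have hi : inst = (Ideal.Quotient.lift J (algebraMap R B) hB).toAlgebra := Algebra.algebra_ext _ _ fun r => by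
      obtain ⟨r, rfl⟩ := Ideal.Quotient.mk_surjective r
      exact (IsScalarTower.algebraMap_apply R (R ⧸ J) B r).symm
    subst hi
    rfl
  rw [hF D hD, up_down]

end Groth.Agent.DiagLift
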